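import Groth.Agent.S19558
import Groth.Agent.BirNormal.Basic
import Groth.Agent.EtFibCard.Basic
import Groth.Agent.DimFormulaLib.LocalDim
import Mathlib

/-! The étale locus of a morphism of smooth schemes, and purity of its complement. -/

set_option autoImplicit false
set_option linter.style.haveILetI false
set_option backward.isDefEq.respectTransparency false
set_option backward.isDefEq.respectTransparency.types false
universe u

open CategoryTheory AlgebraicGeometry TopologicalSpace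

namespace Groth.Agent.ExcPurityLib

/-- `dim S = ht p + dim S/p` for an affine domain. -/
theorem dim_eq_height_add (k : Type u) [Field k] (S : Type u) [CommRing S] [IsDomain S] [Algebra k S]
    [Algebra.FiniteType k S] (p : PrimeSpectrum S) :
    ∃ a r : ℕ, p.asIdeal.height = a ∧ ringKrullDim (S ⧸ p.asIdeal) = r ∧ ringKrullDim S = ((a + r : ℕ) : WithBot ℕ∞) := by
  haveI : IsNoetherianRing S := Algebra.FiniteType.isNoetherianRing k S
  let P : PrimeSpectrum S := ⟨⊥, Ideal.isPrime_bot⟩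
  obtain ⟨r, hr⟩ := DimFormulaLib.exists_nat_trdeg_quotient k S p.asIdeal
  obtain ⟨n, hn⟩ := DimFormulaLib.exists_nat_trdeg_quotient k S P.asIdeal
  have hPp : P ≤ p := (bot_le : (⊥ : Ideal S) ≤ p.asIdeal)
  obtain ⟨a, ha, hna⟩ := DimFormulaLib.trdeg_eq_relHeight_add k S hPp n r hn hr
  obtain ⟨Q, hQmin, hQp, hQe⟩ := DimFormulaLib.exists_isMin_relHeight_eq_height p
  obtain rfl : Q = P := le_antisymm (hQmin (bot_le : (⊥ : Ideal S) ≤ Q.asIdeal)) (bot_le : (⊥ : Ideal S) ≤ Q.asIdeal)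
  refine ⟨a, r, hQe ▸ ha, DimFormulaLib.ringKrullDim_eq_trdeg k r hr, ?_⟩
  rw [← hna, ← DimFormulaLib.ringKrullDim_eq_trdeg k (D := S ⧸ P.asIdeal) n hn]
  exact ringKrullDim_eq_of_ringEquiv (RingEquiv.quotientBot S).symm

/-- A prime off the étale locus which is minimal there has height at most one. -/
theorem height_le_one (A B C : Type u) [CommRing A] [CommRing B] [CommRing C] [Algebra A B] [Algebra A C]
    [Algebra B C] [IsScalarTower A B C] [Algebra.Smooth A B] [Algebra.Smooth A C] [IsNoetherianRing C]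
    (p : PrimeSpectrum C) (N : Set (PrimeSpectrum C)) (hN : IsClosed N)
    (hNe : ∀ q, q ∈ N ↔ ¬ Algebra.IsEtaleAt B q.asIdeal) (hp : p ∈ N) (hmin : ∀ q ∈ N, q ≤ p → q = p) :
    p.asIdeal.height ≤ 1 := by
  classical
  by_contra hh
  obtain ⟨I, rfl⟩ := (PrimeSpectrum.isClosed_iff_zeroLocus_ideal N).1 hN
  let T := I.finite_minimalPrimes_of_isNoetherianRing.toFinset.erase p.asIdeal
  obtain ⟨g, hgp, hg⟩ : ∃ g, g ∉ p.asIdeal ∧ ∀ Q ∈ T, g ∈ Q := by
    by_contra hall
    push Not at hall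
    have hle : T.inf id ≤ p.asIdeal := fun g hg => by
      by_contra hgp
      obtain ⟨Q, hQ, hgQ⟩ := hall g hgp
      exact hgQ (Finset.inf_le (f := id) hQ hg)
    obtain ⟨Q, hQ, hQp⟩ := (p.isPrime.inf_le').1 hle
    simp only [T, Finset.mem_erase, Set.Finite.mem_toFinset] at hQ
    have : (⟨Q, hQ.2.isPrime⟩ : PrimeSpectrum C) = p :=
      hmin _ (show (⟨Q, hQ.2.isPrime⟩ : PrimeSpectrum C) ∈ PrimeSpectrum.zeroLocus (I : Set C) from hQ.2.1.2) hQp
    exact hQ.1 (congrArg PrimeSpectrum.asIdeal this)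
  let L := Localization.Away g
  haveI : Algebra.Smooth C L :=
    ⟨Algebra.FormallySmooth.of_isLocalization (Submonoid.powers g), IsLocalization.Away.finitePresentation g⟩
  haveI : Algebra.Smooth A L := Algebra.Smooth.comp A C L
  haveI : IsNoetherianRing L := IsLocalization.isNoetherianRing (Submonoid.powers g) L inferInstance
  have hL : Algebra.Etale B L := by
    refine S19558.etale_of_height_one A B L fun q _ hq => ?_
    let q' : PrimeSpectrum C := ⟨q.under C, inferInstance⟩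
    have hgq : g ∉ q'.asIdeal := fun h =>
      (inferInstance : q.IsPrime).ne_top (Ideal.eq_top_of_isUnit_mem q h (IsLocalization.Away.algebraMap_isUnit g))
    have hht : q'.asIdeal.height ≤ 1 := by
      rwa [show q'.asIdeal = q.under C from rfl, IsLocalization.height_under (Submonoid.powers g) q]
    have het : Algebra.IsEtaleAt B q'.asIdeal := by
      by_contra hne
      obtain ⟨Q, hQ, hQq⟩ := Ideal.exists_minimalPrimes_le (show I ≤ q'.asIdeal from (hNe q').2 hne)
      have hQp : Q = p.asIdeal := by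
        by_contra hQp
        exact hgq (hQq (hg Q (by simp [T, hQp, hQ])))
      exact hh (le_trans (Ideal.height_mono (hQp ▸ hQq)) hht)
    haveI : IsLocalization.AtPrime (Localization.AtPrime q) (q.under C) :=
      IsLocalization.isLocalization_isLocalization_atPrime_isLocalization (Submonoid.powers g) _ q
    haveI : Algebra.FormallyEtale B (Localization.AtPrime (q.under C)) := het
    exact Algebra.FormallyEtale.of_equiv
      ((IsLocalization.algEquiv (q.under C).primeCompl (Localization.AtPrime (q.under C)) (Localization.AtPrime q)).restrictScalars B)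
  exact (hNe p).1 hp (Algebra.basicOpen_subset_etaleLocus_iff.2 hL.1 (show p ∈ PrimeSpectrum.basicOpen g from hgp))

variable {X Y : Scheme.{u}} (f : X ⟶ Y)

/-- The étale locus. -/
def etaleOpen : X.Opens := ⨆ U : {U : X.Opens // Etale (U.ι ≫ f)}, U.1

theorem le_etaleOpen {U : X.Opens} (h : Etale (U.ι ≫ f)) : U ≤ etaleOpen f :=
  le_iSup (fun V : {V : X.Opens // Etale (V.ι ≫ f)} => V.1) ⟨U, h⟩

theorem etale_etaleOpen : Etale ((etaleOpen f).ι ≫ f) := by
  refine (IsZariskiLocalAtSource.iff_of_openCover (P := @Etale)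
    (Scheme.Opens.iSupOpenCover fun U : {U : X.Opens // Etale (U.ι ≫ f)} => U.1)).2 fun U => ?_
  have : X.homOfLE (le_iSup (fun V : {V : X.Opens // Etale (V.ι ≫ f)} => V.1) U) ≫ (etaleOpen f).ι ≫ f = U.1.ι ≫ f :=
    Scheme.homOfLE_ι_assoc _ _ _
  exact this ▸ U.2

theorem etale_ι_comp_of_le {U W : X.Opens} (h : U ≤ W) (hW : Etale (W.ι ≫ f)) : Etale (U.ι ≫ f) := by
  rw [← Scheme.homOfLE_ι X h, Category.assoc]
  infer_instance

theorem mem_etaleOpen_iff {U : X.Opens} (hU : IsAffineOpen U) {V : Y.Opens} (hV : IsAffineOpen V) (e : U ≤ f ⁻¹ᵁ V)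
    [LocallyOfFinitePresentation f] (q : PrimeSpectrum Γ(X, U)) :
    letI := (f.appLE V U e).hom.toAlgebra
    (hU.fromSpec q ∈ etaleOpen f ↔ Algebra.IsEtaleAt Γ(Y, V) q.asIdeal) := by
  letI := (f.appLE V U e).hom.toAlgebra
  haveI : Algebra.FinitePresentation Γ(Y, V) Γ(X, U) :=
    HasRingHomProperty.appLE (P := @LocallyOfFinitePresentation) f inferInstance ⟨V, hV⟩ ⟨U, hU⟩ e
  have key : ∀ g : Γ(X, U), Etale ((X.basicOpen g).ι ≫ f) ↔ Algebra.Etale Γ(Y, V) (Localization.Away g) := by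
    intro g
    have hD := hU.basicOpen g
    have e' : X.basicOpen g ≤ f ⁻¹ᵁ V := (X.basicOpen_le g).trans e
    have h1 : Etale ((X.basicOpen g).ι ≫ f) ↔ Etale (Spec.map (f.appLE V (X.basicOpen g) e')) := by
      rw [← hD.isoSpec_hom_fromSpec, Category.assoc, ← IsAffineOpen.SpecMap_appLE_fromSpec f hV hD e',
        MorphismProperty.cancel_left_of_respectsIso @Etale]
      exact ⟨fun h => Etale.of_comp _ hV.fromSpec, fun h => inferInstance⟩
    rw [h1, HasRingHomProperty.Spec_iff (P := @Etale)]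
    haveI := hU.isLocalization_basicOpen g
    letI : Algebra Γ(Y, V) Γ(X, X.basicOpen g) := ((algebraMap Γ(X, U) Γ(X, X.basicOpen g)).comp (algebraMap Γ(Y, V) Γ(X, U))).toAlgebra
    haveI : IsScalarTower Γ(Y, V) Γ(X, U) Γ(X, X.basicOpen g) := .of_algebraMap_eq' rfl
    let ι := (IsLocalization.algEquiv (Submonoid.powers g) (Localization.Away g) Γ(X, X.basicOpen g)).restrictScalars Γ(Y, V)
    have heq : (f.appLE V (X.basicOpen g) e').hom = algebraMap Γ(Y, V) Γ(X, X.basicOpen g) := by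
      rw [← Scheme.Hom.appLE_map f e (homOfLE (X.basicOpen_le g)).op]
      rfl
    rw [heq, RingHom.etale_algebraMap]
    exact ⟨fun h => Algebra.Etale.of_equiv ι.symm, fun h => Algebra.Etale.of_equiv ι⟩
  have hmem : ∀ g : Γ(X, U), hU.fromSpec q ∈ X.basicOpen g ↔ g ∉ q.asIdeal := fun g => by
    change q ∈ hU.fromSpec ⁻¹ᵁ X.basicOpen g ↔ _
    rw [hU.fromSpec_preimage_basicOpen]
    rfl
  constructor
  · intro hq
    obtain ⟨g, hg, hgq⟩ := hU.exists_basicOpen_le (V := etaleOpen f) ⟨_, hq⟩ (by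
      have : hU.fromSpec q ∈ Set.range hU.fromSpec := ⟨q, rfl⟩
      rwa [hU.range_fromSpec] at this)
    have := (key g).1 (etale_ι_comp_of_le f hg (etale_etaleOpen f))
    exact Algebra.basicOpen_subset_etaleLocus_iff.2 this.1 (show q ∈ PrimeSpectrum.basicOpen g from (hmem g).1 hgq)
  · intro hq
    obtain ⟨g, hg, het⟩ := Algebra.exists_etale_of_isEtaleAt (R := Γ(Y, V)) q.asIdeal
    exact le_etaleOpen f ((key g).2 het) ((hmem g).2 hg)

/-- The étale locus of a separated birational morphism to a normal scheme is a saturated open where it is an isomorphism. -/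
theorem exists_isIso_over [IsIntegral X] [IsIntegral Y] [IsSeparated f] (hY : ∀ y : Y, IsIntegrallyClosed (Y.presheaf.stalk y))
    (hgen : f (genericPoint X) = genericPoint Y) (hbir : IsIso (f.stalkMap (genericPoint X)))
    (hne : genericPoint X ∈ etaleOpen f) {x : X} (hx : x ∈ etaleOpen f) :
    ∃ V : Y.Opens, f x ∈ V ∧ IsIso (f ∣_ V) := by
  let W := etaleOpen f
  haveI : Nonempty W := ⟨⟨x, hx⟩⟩
  haveI : Etale (W.ι ≫ f) := etale_etaleOpen f
  haveI := EtFibCard.locallyQuasiFinite_of_etale (W.ι ≫ f)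
  haveI : IsIntegral W.toScheme := isIntegral_of_isOpenImmersion W.ι
  have hg : W.ι (genericPoint W.toScheme) = genericPoint X := genericPoint_eq_of_isOpenImmersion W.ι
  have hgenW : (W.ι ≫ f) (genericPoint W.toScheme) = genericPoint Y := by
    rw [Scheme.Hom.comp_apply, hg, hgen]
  have hbirW : IsIso ((W.ι ≫ f).stalkMap (genericPoint W.toScheme)) := by
    rw [Scheme.Hom.stalkMap_comp]
    haveI : IsIso (f.stalkMap (W.ι (genericPoint W.toScheme))) := hg ▸ hbir
    exact IsIso.comp_isIso' ‹_› (inferInstance : IsIso (W.ι.stalkMap (genericPoint W.toScheme)))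
  haveI : IsLocalIso (W.ι ≫ f) := ⟨fun z => BirNormal.exists_isOpenImmersion hY _ hgenW hbirW z ((W.ι ≫ f).quasiFiniteAt z)⟩
  haveI : IsOpenImmersion (W.ι ≫ f) := BirNormal.isOpenImmersion_of_isSeparated _ hgenW
  let j := W.ι ≫ f
  let V := j.opensRange
  refine ⟨V, ⟨⟨x, hx⟩, rfl⟩, ?_⟩
  have hWV : W ≤ f ⁻¹ᵁ V := fun z hz => ⟨⟨z, hz⟩, rfl⟩
  let s : (V : Scheme.{u}) ⟶ (f ⁻¹ᵁ V : X.Opens) := j.isoOpensRange.inv ≫ X.homOfLE hWV
  have hs : s ≫ (f ∣_ V) = 𝟙 _ := by
    rw [← cancel_mono V.ι, Category.assoc, morphismRestrict_ι, Category.id_comp]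
    simp only [s, Category.assoc, Scheme.homOfLE_ι_assoc]
    exact j.isoOpensRange_inv_comp
  haveI : IsClosedImmersion (s ≫ (f ∣_ V)) := by rw [hs]; infer_instance
  haveI : IsClosedImmersion s := IsClosedImmersion.of_comp s (f ∣_ V)
  have heq : f ⁻¹ᵁ V = W := by
    refine le_antisymm (fun z hz => ?_) hWV
    have hz' : (⟨z, hz⟩ : (f ⁻¹ᵁ V : X.Opens)) ∈ Set.range s :=
      ((subtype_specializes_iff (⟨_, hWV hne⟩ : (f ⁻¹ᵁ V : X.Opens)) ⟨z, hz⟩).2 (genericPoint_specializes z)).mem_closed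
        s.isClosedEmbedding.isClosed_range ⟨j.isoOpensRange.hom ⟨genericPoint X, hne⟩, by
          rw [← Scheme.Hom.comp_apply, Iso.hom_inv_id_assoc]
          exact Subtype.ext (Scheme.homOfLE_apply (e := hWV) (x := ⟨genericPoint X, hne⟩))⟩
    obtain ⟨v, hv⟩ := hz'
    have : z = (j.isoOpensRange.inv v).1 := by rw [show z = (⟨z, hz⟩ : (f ⁻¹ᵁ V : X.Opens)).1 from rfl, ← hv]; exact Scheme.homOfLE_apply (e := hWV) (x := j.isoOpensRange.inv v)
    exact this ▸ (j.isoOpensRange.inv v).2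
  haveI : IsOpenImmersion ((f ⁻¹ᵁ V).ι ≫ f) := heq.symm ▸ (inferInstance : IsOpenImmersion (W.ι ≫ f))
  haveI : IsOpenImmersion ((f ∣_ V) ≫ V.ι) := by rw [morphismRestrict_ι]; infer_instance
  haveI : IsOpenImmersion (f ∣_ V) := IsOpenImmersion.of_comp _ V.ι
  refine (isIso_iff_isOpenImmersion_and_epi_base _).2 ⟨inferInstance, (TopCat.epi_iff_surjective _).2 fun v => ⟨s v, ?_⟩⟩
  show (f ∣_ V) (s v) = v
  rw [← Scheme.Hom.comp_apply, hs]
  rfl

end Groth.Agent.ExcPurityLib
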